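import Mathlib
import Cfsg.Agent.H616.TI.Defs
import Cfsg.Agent.GTwoFour.Tools
import Cfsg.Agent.H299.TI.Conj

/-!
# S4821, LOC: the criterion for `G` from `GoodL` for the simple normal subgroup (helper299)
-/

set_option autoImplicit false

namespace Cfsg.Agent.H299.TI

open Subgroup
open scoped Pointwise
open Cfsg.Agent.H616.TI
open Cfsg.Agent.H666.TI (IsTI PElt pElt_of_mem)

universe u

section tools

variable {p : ℕ} [hp : Fact p.Prime] {G : Type u} [Group G]

/-- A `p'`-element normalising `P` and centralising `R`, `C_P(R) ≤ R ⊴ P`, centralises `P`. -/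
theorem cent_of_cent {P R : Subgroup G} (hP : IsPGroup p P)
    (hPR : ∀ x ∈ P, ∀ r ∈ R, x⁻¹ * r * x ∈ R)
    (hc : P ⊓ centralizer (R : Set G) ≤ R) {k : G} (hkP : ∀ x ∈ P, k * x * k⁻¹ ∈ P)
    (hk : ¬ p ∣ orderOf k) (hkR : k ∈ centralizer (R : Set G)) :
    k ∈ centralizer (P : Set G) := by
  rw [mem_centralizer_iff] at hkR ⊢
  intro x hx
  obtain ⟨c, hcdef⟩ : ∃ c : G, c = k * x * k⁻¹ * x⁻¹ := ⟨_, rfl⟩
  have hcP : c ∈ P := by rw [hcdef]; exact P.mul_mem (hkP x hx) (P.inv_mem hx)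
  have hcR : c ∈ R := by
    refine hc ⟨hcP, mem_centralizer_iff.2 fun r hr => ?_⟩
    have h1 := hkR _ (hPR x hx r hr)
    have h2 := hkR _ hr
    -- r * c = c * r
    have h3 : c * r * c⁻¹ = k * x * (k⁻¹ * (x⁻¹ * r * x) * k) * x⁻¹ * k⁻¹ := by
      rw [hcdef]; group
    have h4 : k⁻¹ * (x⁻¹ * r * x) * k = x⁻¹ * r * x := by
      rw [mul_assoc, h1]; group
    rw [h4] at h3
    have h5 : k * x * (x⁻¹ * r * x) * x⁻¹ * k⁻¹ = k * r * k⁻¹ := by group
    rw [h5, ← h2, mul_inv_cancel_right] at h3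
    exact (mul_inv_eq_iff_eq_mul.1 h3).symm
  have h6 := hkR c hcR
  have h7 : k * x * k⁻¹ = c * x := by rw [hcdef]; group
  have h8 : ∀ n : ℕ, k ^ n * x * (k ^ n)⁻¹ = c ^ n * x := by
    intro n
    induction n with
    | zero => simp
    | succ n ih =>
      have h9 : k ^ (n + 1) * x * (k ^ (n + 1))⁻¹ = k * (k ^ n * x * (k ^ n)⁻¹) * k⁻¹ := by
        rw [pow_succ']; group
      have h10 : Commute k (c ^ n) := (show Commute k c from h6.symm).pow_right n
      have h11 : c ^ n * k * x * k⁻¹ = c ^ n * (k * x * k⁻¹) := by group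
      rw [h9, ih, ← mul_assoc, h10.eq, h11, h7, pow_succ, mul_assoc]
  have h11 := h8 (orderOf k)
  rw [pow_orderOf_eq_one, one_mul, inv_one, mul_one] at h11
  have h12 : c ^ orderOf k = 1 := by
    have := h11.symm
    rwa [mul_eq_right] at this
  have h13 : c = 1 := (pElt_of_mem hP hcP).eq_one h12 hk
  rw [h13, one_mul] at h7
  exact (mul_inv_eq_iff_eq_mul.1 h7).symm

theorem normalizer_inf {G : Type u} [Group G] {P L : Subgroup G} [hL : L.Normal] {g : G}
    (hg : g ∈ normalizer (P : Set G)) : g ∈ normalizer ((P ⊓ L : Subgroup G) : Set G) := by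
  rw [mem_normalizer_iff] at hg ⊢
  intro h
  rw [mem_inf, mem_inf, hg h]
  constructor
  · rintro ⟨h1, h2⟩
    exact ⟨h1, hL.conj_mem h h2 g⟩
  · rintro ⟨h1, h2⟩
    refine ⟨h1, ?_⟩
    have := hL.conj_mem _ h2 g⁻¹
    have h3 : g⁻¹ * (g * h * g⁻¹) * g⁻¹⁻¹ = h := by group
    rwa [h3] at this

omit hp in
/-- `N_G(R) ≤ N_G(P)` for `1 ≠ R ≤ P`. -/
theorem IsTI.normalizer_le (h : IsTI p G) {P : Sylow p G} {R : Subgroup G}
    (hRP : R ≤ (P : Subgroup G)) (hR : R ≠ ⊥) :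
    normalizer (R : Set G) ≤ normalizer ((P : Subgroup G) : Set G) := by
  intro g hg
  obtain ⟨⟨x, hx⟩, hx1⟩ := Subgroup.ne_bot_iff_exists_ne_one.1 hR
  have hx2 : x ≠ 1 := fun h => hx1 (Subtype.ext h)
  have h1 : g⁻¹ * x * g ∈ R := by
    have := (mem_normalizer_iff''.1 hg x).1 hx
    exact this
  have h2 : x ∈ g • P := by
    rw [Sylow.smul_def]
    change x ∈ MulAut.conj g • (P : Subgroup G)
    rw [mem_pointwise_smul_iff_inv_smul_mem, ← map_inv, MulAut.smul_def, MulAut.conj_apply, inv_inv]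
    exact hRP h1
  have h3 := h.sylow_eq (hRP hx) h2 hx2
  exact Sylow.smul_eq_iff_mem_normalizer.1 h3.symm

omit hp in
/-- `C_G(z) ≤ N_G(P)` for `1 ≠ z ∈ P`. -/
theorem IsTI.centralizer_le (h : IsTI p G) {P : Sylow p G} {z : G}
    (hz : z ∈ (P : Subgroup G)) (hz1 : z ≠ 1) :
    centralizer ({z} : Set G) ≤ normalizer ((P : Subgroup G) : Set G) := by
  refine le_trans ?_ (IsTI.normalizer_le h (R := zpowers z) ?_ ?_)
  · rw [← centralizer_closure, ← zpowers_eq_closure]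
    exact centralizer_le_normalizer _
  · rw [zpowers_le]; exact hz
  · rw [Ne, zpowers_eq_bot]; exact hz1

omit hp in
theorem card_mul_card_le [Finite G] {P R H : Subgroup G} (hR : R ≤ P) (hH : H ≤ P) :
    Nat.card H * Nat.card R ≤ Nat.card P * Nat.card ↥(R ⊓ H) := by
  have h1 : Nat.card ↥(R ⊓ H) * R.relIndex H = Nat.card H := by
    rw [← inf_relIndex_right, ← relIndex_bot_left, ← relIndex_bot_left]
    exact relIndex_mul_relIndex ⊥ (R ⊓ H) H bot_le inf_le_right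
  have h2 : Nat.card R * R.relIndex P = Nat.card P := by
    rw [← relIndex_bot_left, ← relIndex_bot_left]
    exact relIndex_mul_relIndex ⊥ R P bot_le hR
  have h3 : R.relIndex H ≤ R.relIndex P := relIndex_le_of_le_right hH (by
    intro h0
    rw [h0, mul_zero] at h2
    exact Nat.card_pos.ne' h2.symm)
  rw [← h1, ← h2]
  calc Nat.card ↥(R ⊓ H) * R.relIndex H * Nat.card R
      = Nat.card R * R.relIndex H * Nat.card ↥(R ⊓ H) := by ring
    _ ≤ _ := Nat.mul_le_mul_right _ (Nat.mul_le_mul_left _ h3)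

/-- The complement of `P` in `N(P)` through a given `p'`-subgroup. -/
theorem exists_K [Finite G] (P : Sylow p G) {A : Subgroup G}
    (hA : A ≤ normalizer ((P : Subgroup G) : Set G)) (hAp : ¬ p ∣ Nat.card A) :
    ∃ K : Subgroup G, A ≤ K ∧ K ≤ normalizer ((P : Subgroup G) : Set G) ∧ ¬ p ∣ Nat.card K ∧
      ∀ c ∈ normalizer ((P : Subgroup G) : Set G), ∃ x ∈ (P : Subgroup G), ∃ k ∈ K, c = x * k := by
  set N : Subgroup G := normalizer ((P : Subgroup G) : Set G) with hN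
  have hPN : (P : Subgroup G) ≤ N := le_normalizer
  set P' : Subgroup N := (P : Subgroup G).subgroupOf N with hP'
  have hn : P'.Normal := normal_in_normalizer
  have hPp : IsPGroup p P' := P.isPGroup'.comap_subtype
  have hidx : ¬ p ∣ P'.index := by
    intro h
    refine P.not_dvd_index ?_
    exact h.trans (relIndex_dvd_index_of_le hPN)
  have hcop : (Nat.card P').Coprime P'.index := by
    obtain ⟨n, hn⟩ := hPp.exists_card_eq
    rw [hn]
    exact Nat.Coprime.pow_left n ((Nat.Prime.coprime_iff_not_dvd hp.out).2 hidx)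
  obtain ⟨K0, hK0⟩ := exists_right_complement'_of_coprime hcop
  have hK0p : ¬ p ∣ Nat.card K0 := by rw [← hK0.symm.index_eq_card]; exact hidx
  have hA' : ¬ p ∣ Nat.card (A.subgroupOf N) := not_dvd_subgroupOf N hAp
  obtain ⟨y, hy⟩ := exists_conj_le hPp hK0p hK0.sup_eq_top hA'
  set K1 : Subgroup N := K0.comap (MulAut.conj y).toMonoidHom with hK1
  have hmem : ∀ k : N, k ∈ K1 ↔ y * k * y⁻¹ ∈ K0 := fun k => Iff.rfl
  refine ⟨K1.map N.subtype, ?_, ?_, ?_, ?_⟩
  · intro a ha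
    exact ⟨⟨a, hA ha⟩, (hmem _).2 (hy _ (mem_subgroupOf.2 ha)), rfl⟩
  · rintro _ ⟨k, -, rfl⟩
    exact k.2
  · intro h
    refine hK0p (h.trans ?_)
    rw [card_map_of_injective N.subtype_injective]
    exact card_comap_dvd_of_injective K0 _ (MulAut.conj y).injective
  · intro c hc
    have h1 : y * ⟨c, hc⟩ * y⁻¹ ∈ P' ⊔ K0 := by rw [hK0.sup_eq_top]; exact mem_top _
    obtain ⟨x, hx, k, hk, h2⟩ := mem_sup_of_normal_left.1 h1
    have h3 : y⁻¹ * x * y ∈ P' := by
      have := hn.conj_mem x hx y⁻¹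
      rwa [inv_inv] at this
    have h4 : y⁻¹ * k * y ∈ K1 := by
      rw [hmem]
      have : y * (y⁻¹ * k * y) * y⁻¹ = k := by group
      rwa [this]
    refine ⟨_, mem_subgroupOf.1 h3, _, ⟨_, h4, rfl⟩, ?_⟩
    have h5 : (y⁻¹ * x * y) * (y⁻¹ * k * y) = ⟨c, hc⟩ := by
      have : (y⁻¹ * x * y) * (y⁻¹ * k * y) = y⁻¹ * (x * k) * y := by group
      rw [this, h2]
      group
    have h6 := congrArg Subtype.val h5
    exact h6.symm

/-- The situation of the centralizer of `z` -/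
theorem exists_conj_mem [Finite G] {P K : Subgroup G} (hP : IsPGroup p P) (hK : ¬ p ∣ Nat.card K)
    {z : G} (hPz : P ≤ centralizer ({z} : Set G))
    (hzN : centralizer ({z} : Set G) ≤ normalizer (P : Set G))
    (hPK : ∀ c ∈ normalizer (P : Set G), ∃ x ∈ P, ∃ k ∈ K, c = x * k)
    {g : G} (hg : g ∈ centralizer ({z} : Set G)) (hgp : ¬ p ∣ orderOf g) :
    ∃ y ∈ centralizer ({z} : Set G), y * g * y⁻¹ ∈ K := by
  set W : Subgroup G := centralizer ({z} : Set G) with hW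
  have hn : (P.subgroupOf W).Normal := normal_subgroupOf_of_le_normalizer hzN
  have h1 : P.subgroupOf W ⊔ K.subgroupOf W = ⊤ := by
    rw [eq_top_iff]
    rintro ⟨c, hc⟩ -
    obtain ⟨x, hx, k, hk, hck⟩ := hPK c (hzN hc)
    have hkW : k ∈ W := by
      have := W.mul_mem (W.inv_mem (hPz hx)) hc
      rwa [hck, inv_mul_cancel_left] at this
    have h4 : (⟨c, hc⟩ : ↥W) = ⟨x, hPz hx⟩ * ⟨k, hkW⟩ := Subtype.ext hck
    rw [h4]
    exact mul_mem (mem_sup_left (mem_subgroupOf.2 hx)) (mem_sup_right (mem_subgroupOf.2 hk))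
  have h2 : ¬ p ∣ Nat.card (zpowers (⟨g, hg⟩ : ↥W)) := by
    rw [Nat.card_zpowers, Subgroup.orderOf_mk]
    exact hgp
  obtain ⟨y, hy⟩ := exists_conj_le (P := P.subgroupOf W) hP.comap_subtype
    (not_dvd_subgroupOf W hK) h1 h2
  exact ⟨y, y.2, mem_subgroupOf.1 (hy _ (mem_zpowers _))⟩

/-- The numerical part. -/
theorem crit_core [Finite G] {P K R : Subgroup G} (hP : IsPGroup p P) (hK : ¬ p ∣ Nat.card K)
    {z : G} (hPz : P ≤ centralizer ({z} : Set G))
    (hzN : centralizer ({z} : Set G) ≤ normalizer (P : Set G))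
    (hPK : ∀ c ∈ normalizer (P : Set G), ∃ x ∈ P, ∃ k ∈ K, c = x * k)
    (hRP : R ≤ P) (hKR : ∀ k ∈ K, k ∈ centralizer (R : Set G) → k ∈ centralizer (P : Set G))
    {T : Type u} [Group T] [Finite T] (ι : T →* G) (hι : Function.Injective ι) (hιR : ι.range = R)
    (ψ : ↥K →* MulAut T) (hψ : ∀ k t, ι (ψ k t) = k * ι t * (k : G)⁻¹) {z0 : T} (hz0 : ι z0 = z)
    (hgood : ∀ e ∈ ψ.range, e z0 = z0 → e ≠ 1 →
      (Nat.card {f : MulAut T // f ∈ ψ.range ∧ f z0 = z0} + 1) * Nat.card {x : T // e x = x} ≤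
        Nat.card T) {g : G} (hg : g ∈ centralizer ({z} : Set G)) (hgp : ¬ p ∣ orderOf g)
    (hgP : g ∉ centralizer (P : Set G)) :
    (autIdx P z + 1) * Nat.card ↥(P ⊓ centralizer ({g} : Set G)) ≤ Nat.card P := by
  have hTR : Nat.card T = Nat.card R := by
    rw [← hιR]
    exact Nat.card_congr (MonoidHom.ofInjective hι).toEquiv
  -- the index
  have hidx : autIdx P z ≤ Nat.card {f : MulAut T // f ∈ ψ.range ∧ f z0 = z0} := by
    have hkz : ∀ c : ↥(centralizer ({z} : Set G)), ∃ k : ↥K, (k : G) ∈ centralizer ({z} : Set G) ∧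
        ∃ x ∈ P, (c : G) = x * k := by
      rintro ⟨c, hc⟩
      obtain ⟨x, hx, k, hk, hck⟩ := hPK c (hzN hc)
      have hkW : k ∈ centralizer ({z} : Set G) := by
        have := mul_mem (inv_mem (hPz hx)) hc
        rwa [hck, inv_mul_cancel_left] at this
      exact ⟨⟨k, hk⟩, hkW, x, hx, hck⟩
    choose κ hκz ξ hξ hκ using hkz
    have hfix : ∀ c, ψ (κ c) z0 = z0 := by
      intro c
      apply hι
      rw [hψ, hz0]
      have := mem_centralizer_singleton_iff.1 (hκz c)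
      rw [this, mul_inv_cancel_right]
    let F : ↥(centralizer ({z} : Set G)) ⧸
        (P ⊔ centralizer (P : Set G)).subgroupOf (centralizer ({z} : Set G)) →
        {f : MulAut T // f ∈ ψ.range ∧ f z0 = z0} := fun c => ⟨ψ (κ c.out), ⟨_, rfl⟩, hfix _⟩
    have hF : Function.Injective F := by
      intro c d hcd
      have h1 : ψ (κ c.out) = ψ (κ d.out) := congrArg Subtype.val hcd
      have h2 : ψ ((κ c.out)⁻¹ * κ d.out) = 1 := by
        rw [map_mul, map_inv, h1, inv_mul_cancel]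
      have h3 : ((κ c.out : G)⁻¹ * κ d.out) ∈ centralizer (P : Set G) := by
        refine hKR _ (K.mul_mem (K.inv_mem (κ c.out).2) (κ d.out).2) ?_
        rw [mem_centralizer_iff]
        intro r hr
        rw [SetLike.mem_coe, ← hιR] at hr
        obtain ⟨t, rfl⟩ := hr
        have h4 := hψ ((κ c.out)⁻¹ * κ d.out) t
        rw [h2] at h4
        have h5 : ι t = ((κ c.out : G)⁻¹ * κ d.out) * ι t * ((κ c.out : G)⁻¹ * κ d.out)⁻¹ := h4
        exact (eq_mul_inv_iff_mul_eq.1 h5)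
      rw [← QuotientGroup.out_eq' c, ← QuotientGroup.out_eq' d, QuotientGroup.eq, mem_subgroupOf]
      have h6 : (((c.out)⁻¹ * d.out : ↥(centralizer ({z} : Set G))) : G) =
          (κ c.out : G)⁻¹ * ((ξ c.out)⁻¹ * ξ d.out) * (κ c.out) *
            ((κ c.out : G)⁻¹ * κ d.out) := by
        rw [coe_mul, coe_inv, hκ c.out, hκ d.out]
        group
      rw [h6]
      refine mul_mem (mem_sup_left ?_) (mem_sup_right h3)
      have h7 := (mem_normalizer_iff''.1 (hzN (hκz c.out)) ((ξ c.out)⁻¹ * ξ d.out)).1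
        (P.mul_mem (P.inv_mem (hξ _)) (hξ _))
      exact h7
    exact Nat.card_le_card_of_injective F hF
  -- the element
  obtain ⟨y, hy, hyK⟩ := exists_conj_mem hP hK hPz hzN hPK hg hgp
  obtain ⟨k, hkdef⟩ : ∃ k : G, k = y * g * y⁻¹ := ⟨_, rfl⟩
  rw [← hkdef] at hyK
  have hkz : k ∈ centralizer ({z} : Set G) := by
    rw [hkdef]; exact mul_mem (mul_mem hy hg) (inv_mem hy)
  have hyN := hzN hy
  have hkP : k ∉ centralizer (P : Set G) := by
    intro h
    apply hgP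
    rw [mem_centralizer_iff] at h ⊢
    intro x hx
    have h1 := h _ ((mem_normalizer_iff.1 hyN x).1 hx)
    have h2 : y⁻¹ * (y * x * y⁻¹ * k) * y = y⁻¹ * (k * (y * x * y⁻¹)) * y := by rw [h1]
    rw [hkdef] at h2
    have h3 : y⁻¹ * (y * x * y⁻¹ * (y * g * y⁻¹)) * y = x * g := by group
    have h4 : y⁻¹ * (y * g * y⁻¹ * (y * x * y⁻¹)) * y = g * x := by group
    rw [h3, h4] at h2
    exact h2
  have hkR : k ∉ centralizer (R : Set G) := fun h => hkP (hKR k hyK h)
  have he1 : ψ ⟨k, hyK⟩ ≠ 1 := by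
    intro h
    apply hkR
    rw [mem_centralizer_iff]
    intro r hr
    rw [SetLike.mem_coe, ← hιR] at hr
    obtain ⟨t, rfl⟩ := hr
    have h4 := hψ ⟨k, hyK⟩ t
    rw [h] at h4
    have h5 : ι t = k * ι t * k⁻¹ := h4
    exact (eq_mul_inv_iff_mul_eq.1 h5)
  have hez : ψ ⟨k, hyK⟩ z0 = z0 := by
    apply hι
    rw [hψ, hz0]
    have := mem_centralizer_singleton_iff.1 hkz
    change k * z * k⁻¹ = z
    rw [this, mul_inv_cancel_right]
  have h1 := hgood _ ⟨_, rfl⟩ hez he1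
  -- the fixed points
  have hcard1 : Nat.card ↥(P ⊓ centralizer ({g} : Set G)) =
      Nat.card ↥(P ⊓ centralizer ({k} : Set G)) := by
    refine Nat.card_congr ⟨fun x => ⟨y * x * y⁻¹, (mem_normalizer_iff.1 hyN _).1 x.2.1, ?_⟩,
      fun x => ⟨y⁻¹ * x * y, (mem_normalizer_iff''.1 hyN _).1 x.2.1, ?_⟩, ?_, ?_⟩
    · have h2 := mem_centralizer_singleton_iff.1 x.2.2
      refine mem_centralizer_singleton_iff.2 ?_
      rw [hkdef]
      calc y * x * y⁻¹ * (y * g * y⁻¹) = y * ((x : G) * g) * y⁻¹ := by group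
        _ = y * (g * x) * y⁻¹ := by rw [h2]
        _ = _ := by group
    · have h2 := mem_centralizer_singleton_iff.1 x.2.2
      refine mem_centralizer_singleton_iff.2 ?_
      have h3 : g = y⁻¹ * k * y := by rw [hkdef]; group
      rw [h3]
      calc y⁻¹ * x * y * (y⁻¹ * k * y) = y⁻¹ * ((x : G) * k) * y := by group
        _ = y⁻¹ * (k * x) * y := by rw [h2]
        _ = _ := by group
    · intro x; apply Subtype.ext; change y⁻¹ * (y * x * y⁻¹) * y = x; group
    · intro x; apply Subtype.ext; change y * (y⁻¹ * x * y) * y⁻¹ = x; group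
  have hcard2 : Nat.card ↥(R ⊓ (P ⊓ centralizer ({k} : Set G))) ≤
      Nat.card {x : T // ψ ⟨k, hyK⟩ x = x} := by
    have hex : ∀ r : ↥(R ⊓ (P ⊓ centralizer ({k} : Set G))), ∃ t : T, ι t = r := by
      rintro ⟨r, hr, -⟩
      rw [← hιR] at hr
      exact hr
    choose τ hτ using hex
    have hfix : ∀ r, ψ ⟨k, hyK⟩ (τ r) = τ r := by
      intro r
      apply hι
      rw [hψ, hτ]
      have := mem_centralizer_singleton_iff.1 r.2.2.2
      change k * r * k⁻¹ = r
      rw [← this, mul_inv_cancel_right]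
    refine Nat.card_le_card_of_injective (fun r => ⟨τ r, hfix r⟩) ?_
    intro r s hrs
    have h2 : τ r = τ s := congrArg Subtype.val hrs
    apply Subtype.ext
    rw [← hτ, ← hτ, h2]
  have h2 := card_mul_card_le hRP (inf_le_left : P ⊓ centralizer ({k} : Set G) ≤ P)
  rw [hcard1]
  have hRpos : 0 < Nat.card R := Nat.card_pos
  refine Nat.le_of_mul_le_mul_right ?_ hRpos
  calc (autIdx P z + 1) * Nat.card ↥(P ⊓ centralizer ({k} : Set G)) * Nat.card R
      = (autIdx P z + 1) * (Nat.card ↥(P ⊓ centralizer ({k} : Set G)) * Nat.card R) := by ring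
    _ ≤ (Nat.card {f : MulAut T // f ∈ ψ.range ∧ f z0 = z0} + 1) *
        (Nat.card P * Nat.card {x : T // ψ ⟨k, hyK⟩ x = x}) :=
        Nat.mul_le_mul (Nat.add_le_add_right hidx 1)
          (h2.trans (Nat.mul_le_mul_left _ hcard2))
    _ = Nat.card P * ((Nat.card {f : MulAut T // f ∈ ψ.range ∧ f z0 = z0} + 1) *
        Nat.card {x : T // ψ ⟨k, hyK⟩ x = x}) := by ring
    _ ≤ Nat.card P * Nat.card T := Nat.mul_le_mul_left _ h1
    _ = Nat.card P * Nat.card R := by rw [hTR]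

end tools

/-- **LOC** -/
theorem result : GoalLoc.{u} := by
  intro G _ _ p hp hTI L hLn hLs hLab hCL hpL hzst hgood
  obtain ⟨R0, A, hAN, hAp, hRA, hG⟩ := hgood
  obtain ⟨R, hRdef⟩ : ∃ R : Subgroup G, R = (R0 : Subgroup L).map L.subtype := ⟨_, rfl⟩
  have hRL : R ≤ L := by
    rw [hRdef]
    rintro _ ⟨x, -, rfl⟩
    exact x.2
  have hRp : IsPGroup p R := by rw [hRdef]; exact R0.isPGroup'.map _
  obtain ⟨P, hRP⟩ := hRp.exists_le_sylow
  have hPL : (P : Subgroup G) ⊓ L = R := by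
    have h1 : IsPGroup p ((P : Subgroup G).subgroupOf L) := P.isPGroup'.comap_subtype
    have h2 : (R0 : Subgroup L) ≤ (P : Subgroup G).subgroupOf L := by
      intro x hx
      rw [mem_subgroupOf]
      exact hRP (by rw [hRdef]; exact ⟨x, hx, rfl⟩)
    have h3 := R0.is_maximal' h1 h2
    rw [hRdef, ← h3, subgroupOf_map_subtype]
  have hRne : R ≠ ⊥ := by
    rw [hRdef, Ne, map_eq_bot_iff_of_injective _ L.subtype_injective]
    exact R0.ne_bot_of_dvd_card hpL
  have hPN : ∀ x ∈ (P : Subgroup G), x ∈ normalizer (R : Set G) := by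
    intro x hx
    rw [← hPL]
    exact normalizer_inf (le_normalizer hx)
  -- `z`
  obtain ⟨z, hzR, hzc, hz1⟩ : ∃ z ∈ R, z ∈ centralizer ((P : Subgroup G) : Set G) ∧ z ≠ 1 := by
    have hn : (R.subgroupOf (P : Subgroup G)).Normal := normal_subgroupOf_of_le_normalizer hPN
    have hne : R.subgroupOf (P : Subgroup G) ≠ ⊥ := by
      rw [Ne, subgroupOf_eq_bot, disjoint_iff, inf_eq_left.2 hRP]
      exact hRne
    obtain ⟨z, hz1, hz2, hz3⟩ := Cfsg.Agent.GTwoFour.Tools.exists_mem_center_of_normal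
      P.isPGroup' (R.subgroupOf (P : Subgroup G)) hne
    refine ⟨z, mem_subgroupOf.1 hz1, ?_, fun h => hz3 (Subtype.ext h)⟩
    rw [mem_centralizer_iff]
    intro x hx
    exact congrArg Subtype.val (mem_center_iff.1 hz2 ⟨x, hx⟩)
  have hzP : z ∈ (P : Subgroup G) := hRP hzR
  have hPz : (P : Subgroup G) ≤ centralizer ({z} : Set G) := by
    intro x hx
    rw [mem_centralizer_singleton_iff]
    exact mem_centralizer_iff.1 hzc x hx
  have hzN := IsTI.centralizer_le hTI hzP hz1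
  -- `A`
  obtain ⟨A1, hA1⟩ : ∃ A1 : Subgroup G, A1 = A.map L.subtype := ⟨_, rfl⟩
  have hNLR : ∀ x : L, (x : G) ∈ normalizer (R : Set G) →
      x ∈ normalizer ((R0 : Subgroup L) : Set L) := by
    intro x hx
    rw [mem_normalizer_iff] at hx ⊢
    intro h
    have h1 : ∀ w : L, w ∈ (R0 : Subgroup L) ↔ (w : G) ∈ R := by
      intro w
      rw [hRdef]
      constructor
      · intro hw; exact ⟨w, hw, rfl⟩
      · rintro ⟨w', hw', h2⟩
        rwa [← Subtype.ext h2]
    rw [h1, h1, hx]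
    rfl
  have hNLR' : ∀ x ∈ normalizer ((R0 : Subgroup L) : Set L), (x : G) ∈ normalizer (R : Set G) := by
    intro x hx
    rw [mem_normalizer_iff]
    intro h
    rw [hRdef]
    constructor
    · rintro ⟨r, hr, rfl⟩
      exact ⟨_, (mem_normalizer_iff.1 hx r).1 hr, rfl⟩
    · rintro ⟨r, hr, hr2⟩
      refine ⟨_, (mem_normalizer_iff''.1 hx r).1 hr, ?_⟩
      have h3 : (r : G) = x * h * (x : G)⁻¹ := hr2
      change (x : G)⁻¹ * r * x = h
      rw [h3]
      group
  have hA1N : A1 ≤ normalizer ((P : Subgroup G) : Set G) := by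
    rw [hA1]
    rintro _ ⟨a, ha, rfl⟩
    exact IsTI.normalizer_le hTI hRP hRne (hNLR' a (hAN ha))
  have hA1p : ¬ p ∣ Nat.card A1 := by
    rw [hA1, card_map_of_injective L.subtype_injective]
    exact hAp
  obtain ⟨K, hAK, hKN, hKp, hPK⟩ := exists_K P hA1N hA1p
  have hKR' : ∀ k ∈ K, k ∈ normalizer (R : Set G) := fun k hk => by
    rw [← hPL]; exact normalizer_inf (hKN hk)
  have hKL : ∀ k ∈ K, k ∈ L → k ∈ A1 := by
    intro k hk hkL
    have h1 : (⟨k, hkL⟩ : L) ∈ (R0 : Subgroup L) ⊔ A := by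
      rw [hRA]
      exact hNLR _ (hKR' k hk)
    rw [← SetLike.mem_coe, coe_mul_of_right_le_normalizer_left _ _ hAN, Set.mem_mul] at h1
    obtain ⟨r, hr, a, ha, hra⟩ := h1
    have h2 : (r : G) * a = k := congrArg Subtype.val hra
    have haA : (a : G) ∈ A1 := by rw [hA1]; exact ⟨a, ha, rfl⟩
    have hrR : (r : G) ∈ R := by rw [hRdef]; exact ⟨r, hr, rfl⟩
    have hrK : (r : G) ∈ K := by
      have := K.mul_mem hk (K.inv_mem (hAK haA))
      rwa [← h2, mul_inv_cancel_right] at this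
    have hr1 : (r : G) = 1 := by
      have h3 := (disjoint_of_coprime_natCard (coprime_of hRp hKp)).eq_bot
      have h4 : (r : G) ∈ R ⊓ K := ⟨hrR, hrK⟩
      rwa [h3, mem_bot] at h4
    rw [hr1, one_mul] at h2
    rwa [← h2]
  have hcK : ∀ k ∈ K, k ∈ centralizer (R : Set G) → k ∈ centralizer ((P : Subgroup G) : Set G) := by
    intro k hk hkR
    refine cent_of_cent P.isPGroup' ?_ ?_ ?_ ?_ hkR
    · intro x hx r hr
      exact (mem_normalizer_iff''.1 (hPN x hx) r).1 hr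
    · have h1 := hzst P
      rw [hPL] at h1
      rw [← hPL]
      refine le_inf inf_le_left ?_
      rw [hPL]
      exact h1
    · intro x hx
      exact (mem_normalizer_iff.1 (hKN hk) x).1 hx
    · intro h
      exact hKp (h.trans (orderOf_dvd_natCard K hk))
  -- the action
  let N : Subgroup G := normalizer (R : Set G)
  let ι : ↥(R0 : Subgroup L) →* G := L.subtype.comp (R0 : Subgroup L).subtype
  have hι : Function.Injective ι := L.subtype_injective.comp (subtype_injective _)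
  have hιR : ι.range = R := by
    rw [hRdef]
    ext x
    constructor
    · rintro ⟨r, rfl⟩; exact ⟨r, r.2, rfl⟩
    · rintro ⟨r, hr, rfl⟩; exact ⟨⟨r, hr⟩, rfl⟩
  let e : ↥(R0 : Subgroup L) ≃* ↥R := (MonoidHom.ofInjective hι).trans (MulEquiv.subgroupCongr hιR)
  have he : ∀ t, ((e t : ↥R) : G) = ι t := fun t => rfl
  let ψ0 : ↥N →* MulAut ↥(R0 : Subgroup L) :=
    (MulAut.congr e.symm).toMonoidHom.comp R.normalizerMonoidHom
  have hψ0 : ∀ n t, ι (ψ0 n t) = n * ι t * (n : G)⁻¹ := by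
    intro n t
    have h1 : ψ0 n t = e.symm (R.normalizerMonoidHom n (e t)) := rfl
    rw [h1, ← he, e.apply_symm_apply]
    rfl
  let ψ : ↥K →* MulAut ↥(R0 : Subgroup L) := ψ0.comp (inclusion hKR')
  have hψ : ∀ k t, ι (ψ k t) = k * ι t * (k : G)⁻¹ := fun k t => hψ0 _ t
  obtain ⟨z0, hz0⟩ : ∃ z0, ι z0 = z := by
    rw [← hιR] at hzR
    exact hzR
  have hz0c : z0 ∈ center ↥(R0 : Subgroup L) := by
    rw [mem_center_iff]
    intro t
    apply hι
    rw [map_mul, map_mul, hz0]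
    refine mem_centralizer_iff.1 hzc _ (hRP ?_)
    rw [← hιR]
    exact ⟨t, rfl⟩
  have hz01 : z0 ≠ 1 := fun h => hz1 (by rw [← hz0, h, map_one])
  have hEp : ¬ p ∣ Nat.card ψ.range := fun h => hKp (h.trans (card_range_dvd ψ))
  have hAE : autOf (R0 : Subgroup L) A ≤ ψ.range := by
    rintro _ ⟨a, ha, rfl⟩
    have haA : ((a : L) : G) ∈ A1 := by rw [hA1]; exact ⟨a, ha, rfl⟩
    refine ⟨⟨_, hAK haA⟩, ?_⟩
    ext t
    have h1 := hψ ⟨_, hAK haA⟩ t
    exact h1
  have hAn : ∀ f ∈ ψ.range, ∀ a ∈ autOf (R0 : Subgroup L) A,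
      f * a * f⁻¹ ∈ autOf (R0 : Subgroup L) A := by
    rintro _ ⟨k, rfl⟩ _ ⟨a, ha, rfl⟩
    have haA : ((a : L) : G) ∈ A1 := by rw [hA1]; exact ⟨a, ha, rfl⟩
    have h1 : (k : G) * ((a : L) : G) * (k : G)⁻¹ ∈ A1 :=
      hKL _ (K.mul_mem (K.mul_mem k.2 (hAK haA)) (K.inv_mem k.2))
        (hLn.conj_mem _ (a : L).2 k)
    rw [hA1] at h1
    obtain ⟨b, hb, hb2⟩ := h1
    refine ⟨⟨b, hAN hb⟩, hb, ?_⟩
    ext t
    have hb3 : (b : G) = (k : G) * ((a : L) : G) * (k : G)⁻¹ := hb2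
    have h2 : ι ((ψ k * (R0 : Subgroup L).normalizerMonoidHom a * (ψ k)⁻¹) t) =
        (b : G) * ι t * (b : G)⁻¹ := by
      have h3 : (ψ k * (R0 : Subgroup L).normalizerMonoidHom a * (ψ k)⁻¹) t =
        ψ k ((R0 : Subgroup L).normalizerMonoidHom a ((ψ k)⁻¹ t)) := rfl
      have h4 : ∀ s, ι ((R0 : Subgroup L).normalizerMonoidHom a s) =
        ((a : L) : G) * ι s * ((a : L) : G)⁻¹ := fun s => rfl
      rw [h3, hψ, h4, ← map_inv, hψ, hb3]
      simp only [coe_inv]
      group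
    exact h2.symm
  refine ⟨P, z, hzP, hz1, hzc, fun g hg hgp hgP => ?_⟩
  exact crit_core P.isPGroup' hKp hPz hzN hPK hRP hcK ι hι hιR ψ hψ hz0
    (fun f hf hfz hf1 => hG ψ.range hEp hAE hAn z0 hz0c hz01 f hf hfz hf1) hg hgp hgP

end Cfsg.Agent.H299.TI
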